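import Mathlib.LinearAlgebra.Matrix.Charpoly.Coeff
import Mathlib.RingTheory.PowerSeries.Basic
import Mathlib.Algebra.Polynomial.BigOperators

/-! Jacobi's formula for polynomial matrices and the logarithmic derivative of `charpolyRev`. -/

universe u

namespace Groth.Agent.CharRev

open Matrix Polynomial

variable {R : Type u} [CommRing R] {m : Type*} [Fintype m] [DecidableEq m]

/-- Jacobi's formula. -/
theorem derivative_det (M : Matrix m m R[X]) :
    derivative M.det = (M.adjugate * M.map derivative).trace := by
  have h1 : ∀ i, (M.adjugate * M.map derivative) i i =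
      ∑ σ : Equiv.Perm m, Equiv.Perm.sign σ • ((∏ j ∈ Finset.univ.erase i, M (σ j) j) * derivative (M (σ i) i)) := by
    intro i
    have : (M.adjugate * M.map derivative) i i = cramer M (fun k => derivative (M k i)) i := by
      rw [cramer_eq_adjugate_mulVec]; rfl
    rw [this, cramer_apply, det_apply]
    refine Finset.sum_congr rfl fun σ _ => ?_
    congr 1
    rw [← Finset.mul_prod_erase _ _ (Finset.mem_univ i), mul_comm]
    congr 1
    · refine Finset.prod_congr rfl fun j hj => ?_
      rw [updateCol_ne (Finset.ne_of_mem_erase hj)]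
    · rw [updateCol_self]
  simp only [trace, diag, h1]
  rw [Finset.sum_comm, det_apply, derivative_sum]
  refine Finset.sum_congr rfl fun σ _ => ?_
  rw [← Finset.smul_sum, Units.smul_def, map_zsmul, derivative_prod_finset]
  rfl

theorem X_mul_derivative_charpolyRev (A : Matrix m m R) :
    ((-(Polynomial.X * derivative A.charpolyRev) : R[X]) : PowerSeries R) =
      (A.charpolyRev : PowerSeries R) * PowerSeries.mk (fun n => if n = 0 then 0 else (A ^ n).trace) := by
  let M : Matrix m m R[X] := 1 - (Polynomial.X : R[X]) • A.map Polynomial.C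
  let ι := Polynomial.coeToPowerSeries.ringHom (R := R)
  let G : Matrix m m (PowerSeries R) := Matrix.of fun i j => PowerSeries.mk fun n => (A ^ n) i j
  let CA : Matrix m m (PowerSeries R) := A.map (PowerSeries.C (R := R))
  have hMmap : ι.mapMatrix M = 1 - (PowerSeries.X : PowerSeries R) • CA := by
    ext i j : 1
    simp [M, CA, ι, Matrix.one_apply, apply_ite (fun p : R[X] => (p : PowerSeries R))]
    exact mul_comm _ _
  have hMG : ι.mapMatrix M * G = 1 := by
    rw [hMmap]
    ext i j n
    rw [Matrix.sub_mul, Matrix.one_mul, Matrix.smul_mul]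
    simp only [Matrix.sub_apply, Matrix.smul_apply, map_sub, smul_eq_mul]
    rcases n with _ | n
    · simp [G, PowerSeries.coeff_zero_X_mul, Matrix.one_apply, apply_ite (PowerSeries.constantCoeff (R := R))]
    · simp only [PowerSeries.coeff_succ_X_mul, Matrix.mul_apply, map_sum, CA, G, Matrix.of_apply, Matrix.map_apply,
        PowerSeries.coeff_C_mul, PowerSeries.coeff_mk, pow_succ' A n]
      rw [sub_self, Matrix.one_apply]
      split_ifs <;> simp [PowerSeries.coeff_one]
  have hadj : (ι.mapMatrix M).adjugate = ι M.det • G := by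
    calc (ι.mapMatrix M).adjugate = (ι.mapMatrix M).adjugate * (ι.mapMatrix M * G) := by rw [hMG, mul_one]
      _ = _ := by rw [← mul_assoc, adjugate_mul, Matrix.smul_mul, one_mul, ← RingHom.map_det]
  have hder : M.map derivative = -A.map Polynomial.C := by
    ext i j : 1
    simp [M, Matrix.one_apply, apply_ite (derivative (R := R))]
  change ι (-(Polynomial.X * derivative M.det)) = ι M.det * _
  rw [derivative_det, hder, Matrix.mul_neg, trace_neg, mul_neg, neg_neg, map_mul]
  have htr : ι (M.adjugate * A.map Polynomial.C).trace = ι M.det * (G * CA).trace := by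
    rw [show ι (M.adjugate * A.map Polynomial.C).trace = (ι.mapMatrix (M.adjugate * A.map Polynomial.C)).trace from
      AddMonoidHom.map_trace ι.toAddMonoidHom _]
    rw [map_mul, RingHom.map_adjugate, hadj, Matrix.smul_mul, trace_smul, smul_eq_mul]
    congr 3
    ext i j : 1
    simp [CA, ι]
  rw [htr, mul_left_comm]
  congr 1
  have hX : ι Polynomial.X = PowerSeries.X := by simp [ι]
  rw [hX]
  ext n
  rcases n with _ | n
  · simp
  · simp [PowerSeries.coeff_succ_X_mul, trace, Matrix.mul_apply, CA, G, pow_succ]

theorem charpolyRev_blockCycle (A : Matrix m m R) (n : ℕ) (hn : 1 ≤ n) :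
    (Matrix.of fun (p q : Fin n × m) =>
        if p.1.val = 0 then (if q.1.val = n - 1 then A p.2 q.2 else 0)
        else (if q.1.val + 1 = p.1.val ∧ p.2 = q.2 then 1 else 0)).charpolyRev =
      Polynomial.expand R n A.charpolyRev := by
  classical
  set B : Matrix (Fin n × m) (Fin n × m) R := Matrix.of fun p q =>
        if p.1.val = 0 then (if q.1.val = n - 1 then A p.2 q.2 else 0)
        else (if q.1.val + 1 = p.1.val ∧ p.2 = q.2 then 1 else 0) with hB
  let L : Matrix (Fin n × m) (Fin n × m) R[X] := Matrix.of fun p q =>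
    if q.1 ≤ p.1 ∧ p.2 = q.2 then Polynomial.X ^ (p.1.val - q.1.val) else 0
  let N : Matrix (Fin n × m) (Fin n × m) R[X] := 1 - (Polynomial.X : R[X]) • B.map Polynomial.C
  have hLdet : L.det = 1 := by
    rw [(show L.BlockTriangular (fun p => OrderDual.toDual p.1) from fun p q h => by
      simp only [L, Matrix.of_apply]; rw [if_neg (fun hc => ?_)]
      exact absurd hc.1 (not_le.mpr h)).det_fintype]
    refine Finset.prod_eq_one fun k _ => ?_
    have : L.toSquareBlock (fun p : Fin n × m => OrderDual.toDual p.1) k = 1 := by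
      ext ⟨⟨i, a⟩, hi⟩ ⟨⟨j, b⟩, hj⟩ : 1
      have : i = j := OrderDual.toDual.injective (hi.trans hj.symm)
      subst this
      simp [Matrix.toSquareBlock_def, L, Matrix.one_apply, Prod.ext_iff]
    rw [this, det_one]
  have hNL : ∀ p q, (N * L) p q = if p.1.val = 0 then
      ((1 : Matrix (Fin n × m) (Fin n × m) R[X]) p q - Polynomial.X ^ (n - q.1.val) * Polynomial.C (A p.2 q.2))
      else (1 : Matrix (Fin n × m) (Fin n × m) R[X]) p q := by
    rintro ⟨i, a⟩ ⟨j, b⟩
    simp only [N, Matrix.sub_mul, Matrix.one_mul, Matrix.smul_mul, Matrix.sub_apply, Matrix.smul_apply, smul_eq_mul]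
    by_cases hi : i.val = 0
    · have hBL : (B.map Polynomial.C * L) (i, a) (j, b) = Polynomial.C (A a b) * Polynomial.X ^ (n - 1 - j.val) := by
        rw [Matrix.mul_apply, Finset.sum_eq_single (⟨n - 1, by omega⟩, b)]
        · have hj : j ≤ (⟨n - 1, by omega⟩ : Fin n) := Nat.le_sub_one_of_lt j.isLt
          simp [hB, hi, L, hj]
        · rintro ⟨l, c⟩ - hne
          by_cases hl : l.val = n - 1
          · have : c ≠ b := fun h => hne (by subst h; exact Prod.ext (Fin.ext hl) rfl)
            simp [L, this]
          · simp [hB, hi, hl]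
        · simp
      rw [if_pos hi, hBL]
      rw [show n - j.val = (n - 1 - j.val) + 1 by omega, pow_succ]
      simp only [L, Matrix.of_apply, Matrix.one_apply, Prod.ext_iff]
      by_cases h : j ≤ i ∧ a = b
      · have hij : i = j := Fin.ext (by have := Fin.le_def.mp h.1; omega)
        rw [if_pos h, if_pos ⟨hij, h.2⟩, show i.val - j.val = 0 by omega]
        ring
      · rw [if_neg h, if_neg (fun hh => h ⟨hh.1.ge, hh.2⟩)]
        ring
    · have hBL : (B.map Polynomial.C * L) (i, a) (j, b) = L (⟨i.val - 1, by omega⟩, a) (j, b) := by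
        rw [Matrix.mul_apply, Finset.sum_eq_single (⟨i.val - 1, by omega⟩, a)]
        · simp [hB, hi, show i.val - 1 + 1 = i.val by omega]
        · rintro ⟨l, c⟩ - hne
          have : ¬ (l.val + 1 = i.val ∧ a = c) := fun ⟨h1, h2⟩ =>
            hne (by subst h2; exact Prod.ext (Fin.ext (show l.val = i.val - 1 by omega)) rfl)
          simp [hB, hi, this]
        · simp
      rw [if_neg hi, hBL]
      simp only [L, Matrix.of_apply, Matrix.one_apply, Prod.ext_iff, Fin.le_def]
      by_cases hab : a = b
      · rcases lt_trichotomy j.val i.val with h | h | h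
        · rw [if_pos ⟨h.le, hab⟩, if_pos ⟨by omega, hab⟩, if_neg (fun hh => by have := congrArg Fin.val hh.1; omega),
            ← pow_succ', show i.val - 1 - j.val + 1 = i.val - j.val by omega, sub_self]
        · rw [if_pos ⟨h.le, hab⟩, if_neg (fun hh => by have := hh.1; omega), if_pos ⟨Fin.ext h.symm, hab⟩]
          simp [h]
        · rw [if_neg (fun hh => by have := hh.1; omega), if_neg (fun hh => by have := hh.1; omega),
            if_neg (fun hh => by have := congrArg Fin.val hh.1; omega)]
          ring
      · simp [hab]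
  have htri : (N * L).BlockTriangular Prod.fst := by
    rintro ⟨i, a⟩ ⟨j, b⟩ h
    have hlt : j.val < i.val := h
    rw [hNL, if_neg (by show i.val ≠ 0; omega), Matrix.one_apply_ne]
    intro he
    have := congrArg (fun p => p.1.val) he
    simp only at this
    omega
  have key : N.det = (N * L).det := by rw [det_mul, hLdet, mul_one]
  change N.det = _
  rw [key, htri.det_fintype, Finset.prod_eq_single (⟨0, by omega⟩ : Fin n)]
  · let e : m ≃ {p : Fin n × m // p.1 = ⟨0, by omega⟩} :=
      { toFun := fun a => ⟨(⟨0, by omega⟩, a), rfl⟩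
        invFun := fun p => p.1.2
        left_inv := fun _ => rfl
        right_inv := fun p => Subtype.ext (Prod.ext p.2.symm rfl) }
    rw [← det_submatrix_equiv_self e, Matrix.charpolyRev, AlgHom.map_det]
    congr 1
    ext a b : 1
    rw [submatrix_apply, Matrix.toSquareBlock_def]
    change (N * L) (⟨0, by omega⟩, a) (⟨0, by omega⟩, b) = _
    rw [hNL, if_pos rfl]
    simp [Matrix.one_apply, apply_ite (Polynomial.expand R n)]
  · intro k _ hk
    have : (N * L).toSquareBlock Prod.fst k = 1 := by
      ext ⟨⟨i, a⟩, hi⟩ ⟨⟨j, b⟩, hj⟩ : 1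
      change (N * L) (i, a) (j, b) = _
      rw [hNL, if_neg (fun h => hk (by rw [← show i = k from hi]; exact Fin.ext h))]
      simp [Matrix.one_apply]
    rw [this, det_one]
  · simp

end Groth.Agent.CharRev
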